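import Cfsg.Agent.U5F.Tra
import Cfsg.Agent.Fus.Rk2Pull

/-! Transport of fusion systems over a `p`-group `G`. -/

set_option autoImplicit false

namespace Cfsg.Lib.U4F

open Cfsg Cfsg.FusionSystem Subgroup Equiv Cfsg.Lib.Fus

universe u v

theorem exists_conj {p : ℕ} [Fact p.Prime] {G : Type u} [Group G] [Finite G] (hG : IsPGroup p G)
    {F : FusionSystem (⊤ : Subgroup G)} (hF : F.IsSaturated p) (α : MulAut G) :
    ∃ D : FusionSystem (⊤ : Subgroup G), D.IsSaturated p ∧ (D.IsRealizable p → F.IsRealizable p) ∧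
      ∀ (f : Perm G) (P : Subgroup G), (∀ x, α x ∈ P ↔ x ∈ P) →
        (PIso D f P P ↔ PIso F (α.toEquiv * f * α.toEquiv⁻¹) P P) := by
  have hg : GIso α.toEquiv (⊤ : Subgroup G) ⊤ := ⟨fun x _ y _ => map_mul α x y, fun _ => Iff.rfl⟩
  have h := fIso_pullSys F hg
  refine ⟨_, h.symm.saturated (hG.to_subgroup _) hF, fun ⟨H, _, _, ι, h1, T, hT⟩ => ?_,
    fun f P hP => ?_⟩
  · let e : (⊤ : Subgroup G) ≃* (⊤ : Subgroup G) := topEquiv.trans (α.symm.trans topEquiv.symm)
    have he : ∀ x, extFun (ι.comp e.toMonoidHom) x = extFun ι (α.symm x) := fun x => by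
      rw [extFun_of_mem _ (mem_top _), extFun_of_mem _ (mem_top _)]; rfl
    refine ⟨H, inferInstance, inferInstance, ι.comp e.toMonoidHom, isRealizedBy_of_mor
      (h1.1.comp e.injective) (fun P f hf => ?_) fun P f g _ _ hk => ?_, T, ?_⟩
    · obtain ⟨-, -, g, hg⟩ := (mor_iff_of_realized h1).1 (h.bwd P f hf)
      refine ⟨g, fun x hx => ?_⟩
      have := hg _ (mem_img_of_mem _ hx)
      rw [inv_inv, perm_apply_inv] at this
      rw [he, he]
      exact this
    · refine (h.symm.mor_iff le_top).1 ((mor_iff_of_realized h1).2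
        ⟨le_top, fun _ _ => trivial, g, fun y hy => ?_⟩)
      have := hk _ ((hg.symm.restrict le_top).symm.maps hy)
      rw [he, he] at this
      exact this.trans (congrArg (fun x => g * extFun ι x * g⁻¹) (α.symm_apply_apply y))
    · rw [hT, MonoidHom.range_comp,
        MonoidHom.range_eq_top.2 (show Function.Surjective e.toMonoidHom from e.surjective),
        ← MonoidHom.range_eq_map]
  · have e : img P α.toEquiv = P := (⟨fun x _ y _ => map_mul α x y, hP⟩ : GIso α.toEquiv P P).img_eq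
    have e' : img P ⇑α.toEquiv⁻¹ = P :=
      (⟨fun x _ y _ => map_mul α x y, hP⟩ : GIso α.toEquiv P P).symm.img_eq
    refine ⟨fun k => ?_, fun k => ?_⟩
    · have := h.piso k
      rwa [e] at this
    · have := h.symm.piso k
      rwa [e', inv_inv, ← mul_assoc, ← mul_assoc, inv_mul_cancel, one_mul, inv_mul_cancel_right]
        at this

theorem exists_pull {p : ℕ} [Fact p.Prime] {G : Type u} [Group G] [Finite G] (hG : IsPGroup p G)
    {Γ : Type v} [Group Γ] [Finite Γ] (j : G →* Γ) (hj : Function.Injective j)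
    (hi : ¬ p ∣ j.range.index) : ∃ D : FusionSystem (⊤ : Subgroup G), D.IsSaturated p ∧
      D.IsRealizable p ∧ ∀ (P : Subgroup G) (f : G → G),
        Mor D P f ↔ ∃ w : Γ, ∀ x ∈ P, j (f x) = w * j x * w⁻¹ := by
  let e : Γ ≃* Shrink.{u} Γ := (Shrink.mulEquiv.{u} (α := Γ)).symm
  have : Finite (Shrink.{u} Γ) := Finite.of_equiv _ e.toEquiv
  let ι : (⊤ : Subgroup G) →* Shrink.{u} Γ := e.toMonoidHom.comp (j.comp (⊤ : Subgroup G).subtype)
  have hι : Function.Injective ι := e.injective.comp (hj.comp Subtype.val_injective)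
  have hr := Rk2.pullSys_realized ι hι
  have hT : ∃ T : Sylow p (Shrink.{u} Γ), (T : Subgroup (Shrink.{u} Γ)) = ι.range :=
    (sylIn_of_not_dvd le_top ((hG.to_subgroup _).of_surjective _ ι.rangeRestrict_surjective) (by
      rwa [relIndex_top_right, MonoidHom.range_comp, index_map_of_bijective e.bijective,
        MonoidHom.range_comp, range_subtype, ← MonoidHom.range_eq_map])).exists_sylow_top
  have he : ∀ x, extFun ι x = e (j x) := fun x => extFun_of_mem _ (mem_top x)
  refine ⟨_, saturated_of_realized hr hT, ⟨_, inferInstance, this, ι, hr, hT⟩, fun P f => ?_⟩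
  rw [mor_iff_of_realized hr]
  simp only [he]
  exact ⟨fun ⟨_, _, g, hg⟩ => ⟨e.symm g, fun x hx => e.injective (by simp [hg x hx])⟩,
    fun ⟨w, hw⟩ => ⟨le_top, fun _ _ => trivial, e w, fun x hx => by simp [hw x hx]⟩⟩

end Cfsg.Lib.U4F
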