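import Cfsg.Agent.U4F.B2
import Cfsg.Agent.U4F.Conj

/-! The fusion system of `L₄(2)` over `U F4`. -/

set_option autoImplicit false
set_option linter.unusedSectionVars false

namespace Cfsg.Lib.U4F

open Cfsg Cfsg.FusionSystem Subgroup Equiv Cfsg.Lib.Fus U
open Cfsg.Lib.U5F (UF qq SC sc_refl)
open Cfsg.Lib.Perm (F4 F9)

variable {a c a' c' : F4}

namespace F4m

/-- Matrices of degree four over the field with two elements. -/
abbrev M4 := Matrix (Fin 4) (Fin 4) (ZMod 2)

/-- The unitriangular matrix with the given coordinates. -/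
def jm (t x s y : F4) : M4 :=
  !![1, t.im, s.im, x.re + s.re + s.im + t.re * s.im; 0, 1, y.re, s.re + t.re * y.re;
    0, 0, 1, t.re; 0, 0, 0, 1]

theorem jm_mul (g h : U F4) :
    jm (g * h).t (g * h).x1 (g * h).s (g * h).x2 = jm g.t g.x1 g.s g.x2 * jm h.t h.x1 h.s h.x2 := by
  obtain ⟨t, x, s, y, -, -⟩ := g
  obtain ⟨t', x', s', y', -, h2⟩ := h
  simp only [mul_t, mul_x1, mul_s, mul_x2]
  rw [jm, jm, jm, mul_four]
  refine ext_four ?_
  simp only [mul_one, one_mul, mul_zero, zero_mul, add_zero, zero_add, true_and, and_true,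
    QuadraticAlgebra.re_add, QuadraticAlgebra.re_sub]
  generalize x.re = x0
  generalize x'.re = x0'
  refine ⟨?_, ?_, ?_, ?_, ?_, ?_⟩
  · revert t t'; decide +kernel
  · revert y' t s s'; decide +kernel
  · have : ∀ y' : F4, star y' = -y' → ∀ t s t' s' : F4, (s' * star t).re - (t * star s').re +
        (t * star t * y').re + (s.re + s'.re + (t * y').re) + (s + s' + t * y').im +
        (t.re + t'.re) * (s + s' + t * y').im = s'.re + s'.im + t'.re * s'.im +
        t.im * (s'.re + t'.re * y'.re) + s.im * t'.re + (s.re + s.im + t.re * s.im) := by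
      decide +kernel
    linear_combination this y' h2 t s t' s'
  · exact add_comm _ _
  · revert y' y t s t' s'; decide +kernel
  · exact add_comm _ _

/-- The embeddings into `GL₄(2)`. -/
def emb4 (m e : F4) (hm : m * star m = 1) (he : star e = e) : U F4 →* GL (Fin 4) (ZMod 2) :=
  MonoidHom.toHomUnits (MonoidHom.comp
    ({ toFun := fun g => jm g.t g.x1 g.s g.x2, map_one' := by decide +kernel, map_mul' := jm_mul } :
      U F4 →* M4)
    (MonoidHom.mk' (fun g => ⟨m * g.t, g.x1 + e * g.x2, m * g.s, g.x2,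
      by rw [star_add, star_mul', g.h1, g.h2, he]; ring, g.h2⟩) fun g h => by
        ext1 <;> simp only [mul_t, mul_x1, mul_s, mul_x2, star_mul']
        · ring
        · linear_combination (g.t * star h.s - h.s * star g.t - g.t * star g.t * h.x2) * hm
        · ring))

theorem coe_emb4 (m e : F4) (hm : m * star m = 1) (he : star e = e) (g : U F4) :
    (emb4 m e hm he g : M4) = jm (m * g.t) (g.x1 + e * g.x2) (m * g.s) g.x2 := rfl

theorem emb4_inj (m e : F4) (hm : m * star m = 1) (he : star e = e) :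
    Function.Injective (emb4 m e hm he) := (injective_iff_map_eq_one _).2 fun g h => by
  have h := congrArg Units.val h
  rw [coe_emb4] at h
  have : ∀ m e : F4, m * star m = 1 → star e = e → ∀ x : F4, star x = -x → ∀ y : F4, star y = -y →
      ∀ t s : F4, jm (m * t) (x + e * y) (m * s) y = 1 → t = 0 ∧ x = 0 ∧ s = 0 ∧ y = 0 := by
    decide +kernel
  obtain ⟨h1, h2, h3, h4⟩ := this m e hm he _ g.h1 _ g.h2 _ _ h
  exact U.ext h1 h2 h3 h4

theorem emb4_index (m e : F4) (hm : m * star m = 1) (he : star e = e) :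
    ¬ 2 ∣ (emb4 m e hm he).range.index := by
  have h := (emb4 m e hm he).range.card_mul_index
  rw [← Nat.card_congr (MonoidHom.ofInjective (emb4_inj m e hm he)).toEquiv, card_U, qq_F4,
    Matrix.card_GL_field, ZMod.card] at h
  simp only [Fin.prod_univ_four] at h
  norm_num at h
  omega

/-- The condition that `w` induces `yf a c`. -/
def Ind (m e a c : F4) (w : M4) : Prop :=
  w * w = 1 ∧ ∀ x : F4, star x = -x → ∀ y : F4, star y = -y → ∀ s : F4,
    jm (m * 0) (x + e * (s * star a + a * star s))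
      (m * (s + a * x + a * c * (s * star a + a * star s + y))) (s * star a + a * star s) =
      w * jm (m * 0) (x + e * y) (m * s) y * w

instance (m e a c : F4) (w : M4) : Decidable (Ind m e a c w) := by unfold Ind; infer_instance

theorem model (m e : F4) (hm : m * star m = 1) (he : star e = e) :
    ∃ D : FusionSystem (⊤ : Subgroup (U F4)), D.IsSaturated 2 ∧ D.IsRealizable 2 ∧ Low1 D ∧
      ∀ (a c : F4) (w : M4), a ≠ 0 → c ^ 2 + c + 1 = 0 → Ind m e a c w → Typ (X2 D) a c := by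
  obtain ⟨D, h1, h2, h3⟩ := exists_pull (isP 2) (emb4 m e hm he) (emb4_inj m e hm he)
    (emb4_index m e hm he)
  refine ⟨D, h1, h2, fun d hd => Mor.piso_of_maps ((h3 _ _).2 ?_) fun _ hx => hx,
    fun a c w h0 hc hw => ⟨h0, hc, ?_⟩⟩
  · obtain rfl | rfl : d = 0 ∨ d = 1 := by revert d; decide +kernel
    · exact ⟨1, fun x _ => by
        rw [one_mul, inv_one, mul_one]
        congr 1
        ext1 <;> simp⟩
    let w : M4 := !![1, 1, 0, 0; 0, 1, 0, 0; 0, 1, 1, 1; 0, 0, 0, 1]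
    have hw : w * w = 1 := by decide +kernel
    refine ⟨⟨w, w, hw, hw⟩, fun g hg => Units.ext ?_⟩
    have : ∀ m : F4, m * star m = 1 → ∀ x : F4, star x = -x →
        ∀ t s : F4, jm (m * (t - 1 * s)) (x + s * star s * 1) (m * s) 0 =
          w * jm (m * t) x (m * s) 0 * w := by decide +kernel
    change jm (m * (g.t - 1 * g.s)) (g.x1 + g.s * star g.s * 1 + e * g.x2) (m * g.s) g.x2 =
      w * jm (m * g.t) (g.x1 + e * g.x2) (m * g.s) g.x2 * w
    rw [mem_Q.1 hg, mul_zero, add_zero, add_zero]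
    exact this m hm _ g.h1 _ _
  · have hf : Mor D (V F4) fun x => B2.jv (yf a c (pi2 x)) := (h3 _ _).2
      ⟨⟨w, w, hw.1, hw.1⟩, fun g hg => Units.ext (by
        change _ = w * jm (m * g.t) (g.x1 + e * g.x2) (m * g.s) g.x2 * w
        rw [mem_V.1 hg]
        exact hw.2 _ g.h1 _ g.h2 _)⟩
    obtain ⟨k, hk, ek⟩ := hf.exists_perm
    obtain ⟨φ, hφ, e⟩ := exists_X2 (hk.piso_of_maps fun x hx => by rw [ek x hx]; rfl)
    refine ⟨φ, hφ, fun v => ?_⟩
    obtain ⟨g, hg, rfl⟩ := exists_V v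
    rw [← e g hg, ek g hg]
    rfl

/-- One of four matrices induces `yf a c`. -/
def Dat (m e a c : F4) : Prop :=
  ∃ w ∈ ([!![0, 1, 0, 0; 1, 0, 0, 0; 0, 0, 1, 1; 0, 0, 0, 1],
    !![1, 1, 0, 0; 0, 1, 0, 0; 0, 0, 0, 1; 0, 0, 1, 0],
    !![0, 1, 0, 0; 1, 0, 0, 0; 0, 0, 1, 0; 0, 0, 0, 1],
    !![1, 0, 0, 0; 0, 1, 0, 0; 0, 0, 0, 1; 0, 0, 1, 0]] : List M4), Ind m e a c w

instance (m e a c : F4) : Decidable (Dat m e a c) := by unfold Dat; infer_instance

set_option synthInstance.maxSize 1000 in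
theorem data : ∀ a : F4, a ≠ 0 → ∀ a' : F4, a' ≠ 0 → a ≠ a' → ∀ c : F4, c ^ 2 + c + 1 = 0 →
    ∀ c' : F4, c' ^ 2 + c' + 1 = 0 → c ≠ c' → ∃ m e : F4, m * star m = 1 ∧ star e = e ∧
      Dat m e a c ∧ Dat m e a' c' := by
  decide +kernel

end F4m

theorem exists_mod4 (h0 : a ≠ 0) (h0' : a' ≠ 0) (hc : c ^ 2 + c + 1 = 0) (hc' : c' ^ 2 + c' + 1 = 0)
    (ha : a ≠ a') (hcc : c ≠ c') : ∃ D : FusionSystem (⊤ : Subgroup (U F4)), D.IsSaturated 2 ∧
      D.IsRealizable 2 ∧ Low1 D ∧ Typ (X2 D) a c ∧ Typ (X2 D) a' c' := by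
  obtain ⟨m, e, hm, he, ⟨w, -, hw⟩, w', -, hw'⟩ := F4m.data a h0 a' h0' ha c hc c' hc' hcc
  obtain ⟨D, h1, h2, h3, h4⟩ := F4m.model m e hm he
  exact ⟨D, h1, h2, h3, h4 a c w h0 hc hw, h4 a' c' w' h0' hc' hw'⟩

end Cfsg.Lib.U4F
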