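import Cfsg.Agent.U4F.F4e
import Cfsg.Agent.U4F.F4m
import Cfsg.Agent.Class.FusHeis

/-! The case `q = 2`: the systems with further essential subgroups. -/

set_option autoImplicit false
set_option linter.unusedSectionVars false

namespace Cfsg.Lib.U4F

open Cfsg Cfsg.FusionSystem Subgroup Equiv Cfsg.Lib.Fus U
open Cfsg.Lib.Perm (F4)

namespace F4f

theorem roots : ∀ c c' e : F4, c ^ 2 + c + 1 = 0 → c' ^ 2 + c' + 1 = 0 → e ^ 2 + e + 1 = 0 → c ≠ c' →
    c = e ∨ c' = e := by decide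

theorem typ {X Y : Subgroup (Perm (H F4))} {a c a' c' : F4} (hs : SylIn 2 (T2 F4) X) (h : Typ X a c)
    (h' : Typ X a' c') (k : Typ Y a c) (k' : Typ Y a' c') (hc : c ≠ c') (b e : F4) (hb : Typ X b e) :
    Typ Y b e := by
  rcases typ_typ hs h hb with ⟨rfl, rfl⟩ | ⟨-, h1⟩
  · exact k
  rcases typ_typ hs h' hb with ⟨rfl, rfl⟩ | ⟨-, h2⟩
  · exact k'
  exact ((roots c c' e h.2.1 h'.2.1 hb.2.1 hc).elim h1 h2).elim

end F4f

theorem exc4 : Exc F4 2 := fun F hF => ⟨fun hn => by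
  obtain ⟨E, hE, h0⟩ : ∃ E, F.IsEssential 2 E ∧ ¬ (E = Q F4 ∨ E = V F4) := by
    by_contra k
    exact hn fun E hE => by_contra fun h => k ⟨E, hE, h⟩
  obtain ⟨-, a, ha, rfl⟩ := ((ess_eq hF hE).resolve_left fun e => h0 (.inl e)).resolve_left
    fun e => h0 (.inr e)
  obtain ⟨c, h⟩ := typ_of_ess hF ha hE
  by_cases hQ : F.IsEssential 2 (Q F4)
  swap
  · exact Class.FusH.isRealizable_of_isConstrained (isP_top 2)
      (constrained_V hF hQ fun a f ha _ hf g hg => ((maps_R ha hf).1 g).2 hg)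
  by_cases h1 : ∀ a' c', Typ (X2 F) a' c' → a' = a
  · exact Class.FusH.isRealizable_of_isConstrained (isP_top 2) (constrained_four hF h h1)
  push Not at h1
  obtain ⟨a', c', h', hne⟩ := h1
  obtain ⟨n1, n2⟩ := (typ_typ (syl_X2 hF) h h').resolve_left fun e => hne e.1.symm
  obtain ⟨D, hD, hr, hl, k, k'⟩ := exists_mod4 ha h'.1 h.2.1 h'.2.1 n1 n2
  have e : F = D := fus_ext_mor fun P f =>
    ⟨isSubsystemOf_iff.1 (sub4 hF hD h hl (F4f.typ (syl_X2 hF) h h' k k' n2)) P f,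
      isSubsystemOf_iff.1 (sub4 hD hF k (low1_four hF h hQ) (F4f.typ (syl_X2 hD) k k' h h' n2)) P f⟩
  exact e ▸ hr, hess_of_low2 hF⟩

end Cfsg.Lib.U4F
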