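import Cfsg.Agent.U4F.R9a

/-! Realizability for `q = 3`. -/

set_option autoImplicit false
set_option linter.unusedSectionVars false

namespace Cfsg.Lib.U4F

open Cfsg Cfsg.FusionSystem Subgroup Equiv Cfsg.Lib.Fus U
open Cfsg.Lib.U5F (UF qq SC sc_refl)
open Cfsg.Lib.Perm (F9)

variable {F F' : FusionSystem (⊤ : Subgroup (U F9))}
variable {Γ Λ : Type} [Group Γ] [Finite Γ] [MulAction Γ Λ] {ι : U F9 →* Γ} {v : F9 → Λ}

theorem real9 (A : Amb Γ Λ ι v) (hF : F.IsSaturated 3) (hs : Std F) (hl : Low2 F)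
    (hE : F.IsEssential 3 (Q F9)) : F.IsRealizable 3 := by
  have hne := sig_ne (hy1 hF) (bo1 hF hs) (hY_mem hF hs hl) (mv1 hF hE)
  obtain ⟨x₀, h0⟩ := bs_ne (dzero_mor hF hs hl hne).1
  have bs : ∀ {a b : F9} {σ : F9 ≃+* F9} {hσ : SC σ}, a ≠ 0 → b ≠ 0 → Mor F ⊤ (gam a b σ hσ) →
      ∀ x ∈ Bs (Sig (X1 F)), lab a b σ x ∈ Bs (Sig (X1 F)) := fun ha hb h x hx =>
    lab_bs ha hb (fun y hy => lab_sig (hy1 hF).syl.le ha hb (gy_mem ha hb h) hy) hx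
  have one : ∀ w : Γ, (∀ x ∈ Bs (Sig (X1 F)), w • v x = v x) →
      ∃ (a b : F9) (σ : F9 ≃+* F9) (hσ : SC σ), a ≠ 0 ∧ b ≠ 0 ∧ Mor F ⊤ (gam a b σ hσ) ∧
        ∀ x ∈ Bs (Sig (X1 F)), w • v x = v (lab a b σ x) := fun w hw =>
    ⟨1, 1, RingEquiv.refl F9, sc_refl, one_ne_zero, one_ne_zero,
      Mor.of_eqOn_id F le_rfl fun g _ => dia_one g, fun x hx => by rw [hw x hx]; simp [lab]⟩
  obtain ⟨G, mem⟩ : ∃ G : Subgroup Γ, ∀ w, w ∈ G ↔
      ∃ (a b : F9) (σ : F9 ≃+* F9) (hσ : SC σ), a ≠ 0 ∧ b ≠ 0 ∧ Mor F ⊤ (gam a b σ hσ) ∧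
        ∀ x ∈ Bs (Sig (X1 F)), w • v x = v (lab a b σ x) := by
    refine ⟨subgroupOfFinite _ (one 1 fun x _ => one_smul _ _) ?_, fun _ => Iff.rfl⟩
    rintro w w' ⟨a, b, σ, hσ, ha, hb, h, e⟩ ⟨a', b', σ', hσ', ha', hb', h', e'⟩
    exact ⟨a * σ a', b * σ b', σ'.trans σ, hσ'.trans hσ, mul_ne_zero ha (by simpa using ha'),
      mul_ne_zero hb (by simpa using hb'),
      (h'.comp h fun _ _ => trivial).congr fun g _ => gam_gam hσ hσ' g,
      fun x hx => by rw [mul_smul, e' x hx, e _ (bs ha' hb' h' x hx), lab_lab hσ]⟩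
  have hG : ι.range ≤ G := by
    rintro _ ⟨g, rfl⟩
    exact (mem _).2 (one _ fun x _ => A.fix g x)
  have hP : IsPGroup 3 ι.range := (isP 3).of_surjective _ ι.rangeRestrict_surjective
  have hS : SylIn 3 ι.range G := ⟨hG, hP, fun T h1 h2 h3 =>
    (sylIn_of_not_dvd (by rintro _ ⟨g, rfl⟩; exact A.fix g x₀) hP (A.syl x₀)).max T h1
      (fun w hw => by
        obtain ⟨a, b, σ, hσ, ha, hb, h, e⟩ := (mem w).1 (h2 hw)
        have h4 : w ^ 4 ∈ MulAction.stabilizer Γ (v x₀) := by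
          have b1 := bs ha hb h _ h0
          have b2 := bs ha hb h _ b1
          rw [MulAction.mem_stabilizer_iff, show w ^ 4 = w * (w * (w * w)) by
            simp only [pow_succ, pow_zero, one_mul, mul_assoc], mul_smul,
            mul_smul, mul_smul, e _ h0, e _ b1, e _ b2, e _ (bs ha hb h _ b2)]
          exact congrArg v (lab_four ha hb)
        obtain ⟨n, hn⟩ := IsPGroup.iff_orderOf.1 h3 ⟨w, hw⟩
        rw [orderOf_mk] at hn
        refine zpowers_le.2 h4 (mem_zpowers_pow_iff.2 ?_)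
        rw [hn]
        exact Nat.Coprime.pow_right n (by decide)) h3⟩
  obtain ⟨D, -, hD, mD⟩ := R9a.pull A hG hS.not_dvd_relIndex
  obtain ⟨l2, hle⟩ := R9a.low (F := D) A fun P f w h1 h2 => (mD P f).2 ⟨w, (mem w).2 (one w h1), h2⟩
  have s1 := sub9 hF hs hl l2 (fun f hf => by
    obtain ⟨k, a, b, σ, hσ, ha, hb, e⟩ := hs f hf
    obtain ⟨d, h1, h2⟩ := A.dg a b σ hσ ha hb
    refine (((mD ⊤ _).2 ⟨d, (mem d).2 ⟨a, b, σ, hσ, ha, hb, ?_, fun x _ => h1 x⟩,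
      fun g _ => (h2 g).symm⟩).conj_comp (mem_top k)).congr fun g _ => (e g).symm
    exact (hf.mor.conj_comp (mem_top k⁻¹)).congr fun x _ => by rw [e]; group) hle
  rwa [show F = D from fus_ext_mor fun P f => ⟨fun h => h.of_sub s1, fun h => ?_⟩]
  obtain ⟨w, hw, e⟩ := (mD P f).1 h
  obtain ⟨a, b, σ, hσ, ha, hb, h, e'⟩ := (mem w).1 hw
  obtain ⟨d, h1, h2⟩ := A.dg a b σ hσ ha hb
  have inv : ∀ g, gam a b σ hσ ((gamA a b σ hσ ha hb).symm g) = g :=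
    (gamA a b σ hσ ha hb).apply_symm_apply
  refine ((mor_of_fix A hF hs hl hne (w := d⁻¹ * w) (f := fun g => (gamA a b σ hσ ha hb).symm (f g))
    (fun x hx => by rw [mul_smul, e' x hx, ← h1, inv_smul_smul]) fun g hg => ?_).comp h
      fun _ _ => trivial).congr fun g _ => inv _
  have := h2 ((gamA a b σ hσ ha hb).symm (f g))
  rw [inv, e g hg] at this
  calc _ = d⁻¹ * (d * ι ((gamA a b σ hσ ha hb).symm (f g)) * d⁻¹) * d := by group
    _ = _ := by rw [this]; group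

end Cfsg.Lib.U4F
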