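import Cfsg.Agent.U4F.Nor
import Cfsg.Agent.U4F.W1
import Cfsg.Agent.U4F.Real
import Cfsg.Agent.U4F.R9b
import Cfsg.Agent.U4F.CoA
import Cfsg.Agent.U4F.CoC
import Cfsg.Agent.U4F.F4f

/-! Every saturated fusion system over `U K` is realizable. -/

set_option autoImplicit false

namespace Cfsg.Lib.U4F

open Cfsg Cfsg.FusionSystem Subgroup Equiv Cfsg.Lib.Fus
open Cfsg.Lib.U5F (UF qq SC sc_refl)
open Cfsg.Lib.Perm (F4 F9)

universe u

variable {K : Type u} [Field K] [StarRing K] [Finite K] [UF K] {p : ℕ} [Fact p.Prime] [CharP K p]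
  {F : FusionSystem (⊤ : Subgroup (U K))}

theorem exists_nf (hx : Exc K p) (hp : qq K = 2 ∨ qq K = 3 → qq K = p) (hF : F.IsSaturated p) :
    F.IsRealizable p ∨ ∃ D : FusionSystem (⊤ : Subgroup (U K)), D.IsSaturated p ∧ Std D ∧ Low2 D ∧
      D.IsEssential p (Q K) ∧ (D.IsRealizable p → F.IsRealizable p) := by
  have cV : ∀ {D : FusionSystem (⊤ : Subgroup (U K))}, D.IsSaturated p → Hess D p →
      ¬ D.IsEssential p (Q K) → D.IsRealizable p := fun hD he h =>
    Class.FusH.isRealizable_of_isConstrained (isP_top p) (constrained_V hD h fun a f ha hE hf g hg => by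
      rcases he _ hE with e | e
      · exact absurd (e ▸ hE) h
      · rw [e] at hf; exact hf.maps hg)
  obtain ⟨D, hD, hs, h⟩ := exists_std hF
  by_cases he : Hess D p
  swap
  · exact .inl (h ((hx D hD).1 he))
  by_cases h1 : D.IsEssential p (Q K)
  swap
  · exact .inl (h (cV hD he h1))
  by_cases h2 : D.IsEssential p (V K)
  swap
  · exact .inl (h (Class.FusH.isRealizable_of_isConstrained (isP_top p) (constrained_Q hD he h2)))
  obtain ⟨D', hD', hs', hl, h'⟩ := exists_low2 hD hs he h2 (by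
    by_cases q2 : qq K = 2
    · exact .inr (hp (.inl q2))
    by_cases q3 : qq K = 3
    · exact .inr (hp (.inr q3))
    exact .inl ⟨tor1 hD hs q3 h1, q2⟩)
  by_cases h3 : D'.IsEssential p (Q K)
  · exact .inr ⟨D', hD', hs', hl, h3, fun r => h (h' r)⟩
  · exact .inl (h (h' (cV hD' ((hx D' hD').2 hl) h3)))

theorem realizable_gen (hx : Exc K p) (hp : qq K = 2 → qq K = p) (hq : qq K ≠ 3)
    (hF : F.IsSaturated p) : F.IsRealizable p := by
  rcases exists_nf hx (fun h => h.elim hp fun h => absurd h hq) hF with h | ⟨D, hD, hs, hl, hE, h⟩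
  · exact h
  refine h ?_
  have t1 := tor1 hD hs hq hE
  have l1 := low1 hE t1 (l1_mem hD hs hq hE)
  obtain ⟨D', h3, h4, h5, h6, h7, h8⟩ := exists_real hD hs t1 (tor2 hD hs hl)
  have e : D = D' := fus_ext_mor fun P k =>
    ⟨isSubsystemOf_iff.1 (sub_of_low hD hs ((hx D hD).2 hl) hq l1 h6 hl h7
        fun f hf => ((h8 f).2 hf).mor) P k,
      isSubsystemOf_iff.1 (sub_of_low h3 h5 ((hx D' h3).2 h7) hq h6 l1 h7 hl
        fun f hf => ((h8 f).1 hf).mor) P k⟩
  exact e ▸ h4

theorem realizable_nine {F : FusionSystem (⊤ : Subgroup (U F9))} (hF : F.IsSaturated 3) :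
    F.IsRealizable 3 := by
  rcases exists_nf (exc_of_ne (by rw [qq_F9]; decide)) (fun _ => qq_F9) hF with h | ⟨D, hD, hs, hl, hE, h⟩
  · exact h
  obtain ⟨ι, v, hc⟩ := exists_coD
  have : Finite Co0 := Nat.finite_of_card_ne_zero (by rw [Spor.CK.card_Co0]; decide)
  exact h (real9 hc.amb hD hs hl hE)

theorem realizable_four {F : FusionSystem (⊤ : Subgroup (U F4))} (hF : F.IsSaturated 2) :
    F.IsRealizable 2 :=
  realizable_gen exc4 (fun h => h) (by rw [qq_F4]; decide) hF

theorem equiv_of_qq {K' : Type} [Field K'] [StarRing K'] [Finite K'] [UF K'] (h : qq K = qq K') :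
    Nonempty (U K' ≃* (⊤ : Subgroup (U K))) := by
  have := Fintype.ofFinite K
  have := Fintype.ofFinite K'
  obtain ⟨e⟩ : Nonempty (K' ≃+* K) := Class.nonempty_ringEquiv_of_card_eq (by
    rw [← Nat.card_eq_fintype_card, ← Nat.card_eq_fintype_card, U5F.card_K, U5F.card_K, h])
  obtain ⟨f⟩ := exists_equivU e fun x => by rw [U5F.star_eq_pow, U5F.star_eq_pow, map_pow, h]
  exact ⟨f.trans topEquiv.symm⟩

theorem realizable_U (hF : F.IsSaturated p) : F.IsRealizable p := by
  obtain ⟨n, hn⟩ := U5F.qq_eq_pow (K := K) p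
  have hp : p.Prime := Fact.out
  by_cases h2 : qq K = 2
  · obtain rfl : p = 2 := (Nat.Prime.pow_eq_iff Nat.prime_two).1 (hn.symm.trans h2) |>.1
    obtain ⟨e⟩ := equiv_of_qq (h2.trans qq_F4.symm)
    obtain ⟨D, h1, h, -⟩ := U5F.transport (isP_top 2) hF e
    exact h (realizable_four h1)
  by_cases h3 : qq K = 3
  · obtain rfl : p = 3 := (Nat.Prime.pow_eq_iff Nat.prime_three).1 (hn.symm.trans h3) |>.1
    obtain ⟨e⟩ := equiv_of_qq (h3.trans qq_F9.symm)
    obtain ⟨D, h1, h, -⟩ := U5F.transport (isP_top 3) hF e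
    exact h (realizable_nine h1)
  exact realizable_gen (exc_of_ne h2) (fun h => absurd h h2) h3 hF

end Cfsg.Lib.U4F
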