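import Mathlib.FieldTheory.ChevalleyWarning
import Mathlib.Algebra.Module.ZMod
import Mathlib.Algebra.Field.ZMod
import Mathlib.LinearAlgebra.Dimension.Free
import Mathlib.FieldTheory.Finiteness

/-! A consequence of the theorem of Chevalley and Warning. -/

set_option autoImplicit false

namespace Cfsg.Lib.U4F

theorem CW.lin {p : ℕ} [Fact p.Prime] {A B : Type*} [AddCommGroup A] [AddCommGroup B]
    [Module (ZMod p) A] [Module (ZMod p) B] [Finite A] [Finite B]
    (β : A →ₗ[ZMod p] A →ₗ[ZMod p] B) (l : A →ₗ[ZMod p] B) (h : ∀ v, β v v + l v = 0 → v = 0) :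
    Nat.card A ≤ Nat.card B ^ 2 := by
  classical
  let bV := Module.finBasis (ZMod p) A
  let bW := Module.finBasis (ZMod p) B
  let f : Fin (Module.finrank (ZMod p) B) →
      MvPolynomial (Fin (Module.finrank (ZMod p) A)) (ZMod p) :=
    fun j => ∑ i, ∑ k, MvPolynomial.C (bW.repr (β (bV i) (bV k)) j) *
      (MvPolynomial.X i * MvPolynomial.X k) +
        ∑ i, MvPolynomial.C (bW.repr (l (bV i)) j) * MvPolynomial.X i
  have hdeg : ∀ j, (f j).totalDegree ≤ 2 := fun j =>
    (MvPolynomial.totalDegree_add _ _).trans (max_le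
      (MvPolynomial.totalDegree_finsetSum_le fun i _ =>
        MvPolynomial.totalDegree_finsetSum_le fun k _ =>
          (MvPolynomial.totalDegree_mul _ _).trans (by
            rw [MvPolynomial.totalDegree_C, zero_add]
            refine (MvPolynomial.totalDegree_mul _ _).trans ?_
            rw [MvPolynomial.totalDegree_X, MvPolynomial.totalDegree_X]))
      (MvPolynomial.totalDegree_finsetSum_le fun i _ =>
        (MvPolynomial.totalDegree_mul _ _).trans (by
          rw [MvPolynomial.totalDegree_C, zero_add, MvPolynomial.totalDegree_X]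
          exact one_le_two)))
  have heval : ∀ x j, MvPolynomial.eval x (f j) =
      bW.repr (β (∑ i, x i • bV i) (∑ i, x i • bV i) + l (∑ i, x i • bV i)) j := fun x j => by
    simp only [f, map_add, map_sum, map_mul, MvPolynomial.eval_C, MvPolynomial.eval_X,
      LinearMap.sum_apply, map_smul, LinearMap.smul_apply, Finsupp.finsetSum_apply,
      Finsupp.smul_apply, smul_eq_mul, Finsupp.add_apply]
    congr 1
    · rw [Finset.sum_comm]
      refine Finset.sum_congr rfl fun i _ => ?_
      rw [Finset.mul_sum]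
      exact Finset.sum_congr rfl fun k _ => by ring
    · exact Finset.sum_congr rfl fun k _ => by ring
  have hp : p.Prime := Fact.out
  rw [Module.natCard_eq_pow_finrank (K := ZMod p) (V := A),
    Module.natCard_eq_pow_finrank (K := ZMod p) (V := B), Nat.card_zmod, ← pow_mul]
  refine Nat.pow_le_pow_right hp.pos (not_lt.1 fun hlt => ?_)
  have h1 := char_dvd_card_solutions_of_fintype_sum_lt (K := ZMod p) p (f := f) (by
    refine lt_of_le_of_lt (Finset.sum_le_sum fun j _ => hdeg j) ?_
    simpa using hlt)
  have h2 : Nat.card {x // ∀ j, MvPolynomial.eval x (f j) = 0} = 1 := by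
    refine Nat.card_eq_one_iff_exists.2 ⟨⟨0, fun j => by rw [heval]; simp⟩, fun x => Subtype.ext ?_⟩
    have h3 := h (∑ i, x.1 i • bV i) (bW.repr.injective (Finsupp.ext fun j => by
      rw [← heval, x.2 j]; simp))
    exact funext (Fintype.linearIndependent_iff.1 bV.linearIndependent _ h3)
  have h4 : p ∣ Nat.card {x // ∀ j, MvPolynomial.eval x (f j) = 0} := by
    rw [Nat.card_eq_fintype_card]; convert h1
  rw [h2] at h4
  exact hp.one_lt.ne' (Nat.dvd_one.1 h4)

theorem cw {p : ℕ} [Fact p.Prime] {A B : Type*} [AddCommGroup A] [AddCommGroup B] [Finite A]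
    [Finite B] (hA : ∀ a : A, p • a = 0) (hB : ∀ b : B, p • b = 0) (β : A →+ A →+ B) (l : A →+ B)
    (h : Nat.card B ^ 2 < Nat.card A) : ∃ a, a ≠ 0 ∧ β a a + l a = 0 := by
  let _ : Module (ZMod p) A := AddCommGroup.zmodModule hA
  let _ : Module (ZMod p) B := AddCommGroup.zmodModule hB
  by_contra! h'
  exact h.not_ge (CW.lin (p := p) (LinearMap.mk₂ (ZMod p) (fun x y => β x y)
    (fun x y z => by rw [map_add, AddMonoidHom.add_apply])
    (fun c x y => ZMod.map_smul (β.flip y) c x) (fun x => map_add _)
    fun c x => ZMod.map_smul (β x) c) (l.toZModLinearMap p) fun v hv =>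
      by_contra fun h0 => h' v h0 hv)

end Cfsg.Lib.U4F
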