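import Cfsg.Agent.U4F.AutS
import Cfsg.Agent.U5F.Tra
import Cfsg.Agent.FT.Prod
import Cfsg.Agent.S0012
import Cfsg.Agent.Fus.EssAut

/-! Normalisation of the automizer of `U K`. -/

set_option autoImplicit false
set_option linter.unusedSectionVars false

namespace Cfsg.Lib.U4F

open Cfsg Cfsg.FusionSystem Subgroup Equiv Cfsg.Lib.Fus
open Cfsg.Lib.U5F (UF qq SC sc_refl Tr Iv LTr Sec Loc SEm MinL)

universe u

variable {K : Type u} [Field K] [StarRing K] [Finite K] [UF K] {p : ℕ} [Fact p.Prime] [CharP K p]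

namespace Nor

variable (K) in
/-- The automorphisms that are trivial on the abelianization. -/
def Cc : Subgroup (MulAut (U K)) :=
  subgroupOfFinite {α | ∀ g, g⁻¹ * α g ∈ W K} (fun g => by simp) fun a b ha hb g => by
    simpa [mul_assoc] using mul_mem (hb g) (ha (b g))

variable (K) in
/-- The diagonal and field automorphisms. -/
def Ga : Subgroup (MulAut (U K)) :=
  subgroupOfFinite {α | ∃ (a b : K) (σ : K ≃+* K) (hσ : SC σ), a ≠ 0 ∧ b ≠ 0 ∧
    ∀ g, α g = gam a b σ hσ g} ⟨1, 1, _, sc_refl, one_ne_zero, one_ne_zero, fun g => (dia_one g).symm⟩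
    fun _ _ ⟨_, _, σ, _, ha, hb, e⟩ ⟨_, _, _, _, ha', hb', e'⟩ =>
      ⟨_, _, _, _, mul_ne_zero ha ((map_ne_zero σ).2 ha'), mul_ne_zero hb ((map_ne_zero σ).2 hb'),
        fun g => by rw [MulAut.mul_apply, e, e', gam_gam]⟩

instance : (Cc K).Normal := ⟨fun α h β g => by
  simpa using AutS.mW β (mem_subgroupOfFinite.1 h (β⁻¹ g))⟩

theorem isP_Cc (p : ℕ) [Fact p.Prime] [CharP K p] : IsPGroup p (Cc K) :=
  isPGroup_iff_resIn_eq_bot.2 (eq_bot_iff.2 (resIn_le_iff.2 fun _ h ho =>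
    Ess.eq_one_of_triv_frattini (isP p) ho fun x _ =>
      (Cfsg.Agent.S0012.result p (isP p)).1 (comm_top.ge (mem_subgroupOfFinite.1 h x))))

theorem sd : FT.SDProd (Cc K) (Ga K) ⊤ := by
  refine FT.SDProd.of_normal ⟨le_top, le_normalizer_of_normal⟩ (eq_top_iff.2 fun α _ => ?_)
    (eq_bot_iff.2 fun α ⟨h, h'⟩ => ?_)
  · obtain ⟨a, b, σ, hσ, ha, hb, e⟩ := aut_gam α
    rw [← mul_inv_cancel_left (gamA a b σ hσ ha hb) α]
    refine mul_mem (mem_sup_right (mem_subgroupOfFinite.2 ⟨a, b, σ, hσ, ha, hb, fun _ => rfl⟩))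
      (mem_sup_left (mem_subgroupOfFinite.2 fun g => ?_))
    have := AutS.mW (gamA a b σ hσ ha hb)⁻¹ (e g)
    rwa [map_mul, map_inv, ← gamA_apply hσ ha hb, MulAut.inv_apply_self] at this
  · obtain ⟨a, b, σ, hσ, ha, hb, e⟩ := mem_subgroupOfFinite.1 h'
    obtain ⟨d, hd, hs⟩ := U5F.exists_skew (K := K)
    have h1 : ∀ t : K, a / b * σ t = t ∧ b * star b * σ d = d := fun t => by
      have := mem_subgroupOfFinite.1 h ⟨t, 0, 0, d, by simp, hs⟩
      rw [e, mem_W, U.mul_t, U.mul_x2, U.inv_t, U.inv_x2, neg_add_eq_zero, neg_add_eq_zero] at this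
      exact ⟨this.1.symm, this.2.symm⟩
    have h2 : a / b = 1 := by simpa using (h1 1).1
    have h3 : ∀ x, σ x = x := fun x => by simpa [h2] using (h1 x).1
    have h4 : b * star b = 1 := mul_right_cancel₀ hd (by simpa [h3] using (h1 1).2)
    obtain rfl : a = b := (div_eq_one_iff_eq hb).1 h2
    exact MulEquiv.ext fun g => by
      rw [e]
      ext <;> simp [h2, h3, h4]

end Nor

open Nor in
theorem exists_conj_std {X : Subgroup (MulAut (U K))}
    (hX : SylIn p (MulAut.conj : U K →* MulAut (U K)).range X) : ∃ τ : MulAut (U K), ∀ α ∈ X,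
      ∃ (k : U K) (a b : K) (σ : K ≃+* K) (hσ : SC σ), a ≠ 0 ∧ b ≠ 0 ∧
        ∀ g, τ⁻¹ (α (τ g)) = k * gam a b σ hσ g * k⁻¹ := by
  have hp := (Fact.out : p.Prime)
  have hc := (Nat.Prime.coprime_iff_not_dvd hp).2 hX.not_dvd_relIndex
  have : (MulAut.conj : U K →* MulAut (U K)).range.Normal := ⟨by
    rintro _ ⟨x, rfl⟩ β
    exact ⟨β x, MulEquiv.ext fun g => by simp⟩⟩
  obtain ⟨n, hn⟩ := IsPGroup.iff_card.1 hX.pgroup
  obtain ⟨H, hH⟩ := FT.exists_sdprod_of_coprime ⟨hX.le, le_normalizer_of_normal⟩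
    (hn ▸ hc.pow_left n)
  obtain ⟨m, hm⟩ := IsPGroup.iff_card.1 (isP_Cc (K := K) p)
  have hc' : (Nat.card (Cc K)).Coprime (Nat.card H) := hm ▸ hH.relIndex_left ▸ hc.pow_left m
  obtain ⟨k, -, e⟩ := (FT.SDProd.of_eq_sup le_normalizer_of_normal
    (disjoint_of_coprime_natCard hc').eq_bot).exists_conj_eq (sd.modr_le le_sup_left le_top) hc'
      (.inl (by have := (isP_Cc (K := K) p).isNilpotent; infer_instance))
  refine ⟨k⁻¹, fun α hα => ?_⟩
  obtain ⟨_, ⟨x, rfl⟩, h, hh, rfl⟩ := hH.exists_mul hα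
  obtain ⟨a, b, σ, hσ, ha, hb, e'⟩ :=
    mem_subgroupOfFinite.1 (e.le (smul_mem_pointwise_smul h (MulAut.conj k) H hh)).1
  exact ⟨k x, a, b, σ, hσ, ha, hb, fun g => by rw [← e']; simp⟩

theorem exists_std {F : FusionSystem (⊤ : Subgroup (U K))} (hF : F.IsSaturated p) :
    ∃ D : FusionSystem (⊤ : Subgroup (U K)), D.IsSaturated p ∧ Std D ∧
      (D.IsRealizable p → F.IsRealizable p) := by
  have h := (sat_aut_top (isP_top p) hF).map_equiv (MulAut.congr topEquiv)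
  have e : (Inn (⊤ : Subgroup (U K))).map (MulAut.congr topEquiv).toMonoidHom =
      (MulAut.conj : U K →* MulAut (U K)).range := by
    ext α
    constructor
    · rintro ⟨β, hβ, rfl⟩
      obtain ⟨x, -, hx⟩ := mem_inn_iff.1 hβ
      exact ⟨x, MulEquiv.ext fun g => (hx ⟨g, trivial⟩).symm⟩
    · rintro ⟨x, rfl⟩
      exact ⟨(MulAut.congr topEquiv).symm (MulAut.conj x), mem_inn_iff.2 ⟨x, trivial, fun _ => rfl⟩,
        MulEquiv.apply_symm_apply _ _⟩
  rw [e] at h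
  obtain ⟨τ, hτ⟩ := exists_conj_std h
  obtain ⟨D, h1, h2, h3⟩ := U5F.transport (isP_top p) hF (τ.trans topEquiv.symm)
  refine ⟨D, h1, fun f hf => ?_, h2⟩
  obtain ⟨α, hα, e⟩ := h3 f hf
  obtain ⟨k, a, b, σ, hσ, ha, hb, e'⟩ := hτ _ (mem_map_of_mem _ hα)
  exact ⟨k, a, b, σ, hσ, ha, hb, fun g => by
    rw [← e', eq_comm, MulAut.inv_apply, MulEquiv.symm_apply_eq]
    exact (congrArg Subtype.val (e g)).symm⟩

end Cfsg.Lib.U4F
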