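import Cfsg.Agent.U4F.Sub9
import Cfsg.Agent.U4F.Conj

/-! The elements of the ambient group which fix the vectors labelled by `Bs` induce morphisms. -/

set_option autoImplicit false
set_option linter.unusedSectionVars false

namespace Cfsg.Lib.U4F

open Cfsg Cfsg.FusionSystem Subgroup Equiv Cfsg.Lib.Fus U
open Cfsg.Lib.U5F (UF qq SC sc_refl)
open Cfsg.Lib.Perm (F9)

variable {F F' : FusionSystem (⊤ : Subgroup (U F9))}
variable {Γ Λ : Type} [Group Γ] [Finite Γ] [MulAction Γ Λ] {ι : U F9 →* Γ} {v : F9 → Λ}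

namespace R9a

theorem pull (A : Amb Γ Λ ι v) {G : Subgroup Γ} (hG : ι.range ≤ G) (h : ¬ 3 ∣ ι.range.relIndex G) :
    ∃ D : FusionSystem (⊤ : Subgroup (U F9)), D.IsSaturated 3 ∧ D.IsRealizable 3 ∧
      ∀ (P : Subgroup (U F9)) (f : U F9 → U F9),
        Mor D P f ↔ ∃ w ∈ G, ∀ x ∈ P, ι (f x) = w * ι x * w⁻¹ := by
  obtain ⟨D, h1, h2, h3⟩ := exists_pull (isP 3) (ι.codRestrict G fun g => hG ⟨g, rfl⟩)
    (fun a b e => A.inj (congrArg Subtype.val e)) (by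
      rwa [show (ι.codRestrict G fun g => hG ⟨g, rfl⟩).range = ι.range.subgroupOf G from
        Subgroup.ext fun w => ⟨fun ⟨g, e⟩ => ⟨g, congrArg Subtype.val e⟩,
          fun ⟨g, e⟩ => ⟨g, Subtype.ext e⟩⟩])
  exact ⟨D, h1, h2, fun P f => (h3 P f).trans
    ⟨fun ⟨w, e⟩ => ⟨w, w.2, fun x hx => congrArg Subtype.val (e x hx)⟩,
      fun ⟨w, hw, e⟩ => ⟨⟨w, hw⟩, fun x hx => Subtype.ext (e x hx)⟩⟩⟩

theorem low (A : Amb Γ Λ ι v) {M : Set F9}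
    (h : ∀ (P : Subgroup (U F9)) (f : U F9 → U F9) (w : Γ), (∀ x ∈ Bs M, w • v x = v x) →
      (∀ x ∈ P, ι (f x) = w * ι x * w⁻¹) → Mor F P f) : Low2 F ∧ M ⊆ Sig (X1 F) := by
  refine ⟨fun r => ?_, fun b hb => ?_⟩
  · obtain ⟨w, hw, e⟩ := A.low r
    exact ⟨h _ _ w (fun x _ => hw x) fun g hg => (e g hg).symm, lo2_mem r⟩
  · obtain ⟨w, hw, e⟩ := A.rf b
    choose! k h1 h2 h3 using e
    obtain ⟨f, hf, ef⟩ := (h _ k w (fun x hx => hw x (hx b hb))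
      fun g hg => (h2 g hg).symm).exists_perm
    exact ⟨f, hf.piso_of_maps fun g hg => by rw [ef g hg]; exact h1 g hg,
      fun g hg => by rw [ef g hg, h3 g hg]⟩

end R9a

theorem mor_of_fix (A : Amb Γ Λ ι v) (hF : F.IsSaturated 3) (hs : Std F) (hl : Low2 F)
    (hne : (Sig (X1 F)).Nonempty) {w : Γ} (hw : ∀ x ∈ Bs (Sig (X1 F)), w • v x = v x)
    {P : Subgroup (U F9)} {f : U F9 → U F9} (hf : ∀ g ∈ P, ι (f g) = w * ι g * w⁻¹) :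
    Mor F P f := by
  obtain ⟨hM, hd⟩ := dzero_mor hF hs hl hne
  obtain ⟨x₀, h0⟩ := bs_ne hM
  have mem : ∀ w : Γ, w ∈ ⨅ x ∈ Bs (Sig (X1 F)), MulAction.stabilizer Γ (v x) ↔
      ∀ x ∈ Bs (Sig (X1 F)), w • v x = v x := fun w => by
    simp only [Subgroup.mem_iInf, MulAction.mem_stabilizer_iff]
  have hG : ι.range ≤ ⨅ x ∈ Bs (Sig (X1 F)), MulAction.stabilizer Γ (v x) := by
    rintro _ ⟨g, rfl⟩
    exact (mem _).2 fun x _ => A.fix g x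
  obtain ⟨D, hD, -, mD⟩ := R9a.pull A hG fun d => A.syl x₀ (d.trans (Dvd.intro _
    (relIndex_mul_relIndex _ _ _ hG fun w hw => (mem w).1 hw x₀ h0)))
  simp only [mem] at mD
  obtain ⟨l2, hle⟩ := R9a.low A fun P f w h1 h2 => (mD P f).2 ⟨w, h1, h2⟩
  have nf : ∀ f, Mor D ⊤ f → ∃ (k : U F9) (a b : F9) (σ : F9 ≃+* F9) (hσ : SC σ), a ≠ 0 ∧ b ≠ 0 ∧
      (∀ x ∈ Bs (Sig (X1 F)), lab a b σ x = x) ∧ ∀ g, f g = k * gam a b σ hσ g * k⁻¹ :=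
    fun f hf => by
      obtain ⟨w, h1, h2⟩ := (mD _ _).1 hf
      obtain ⟨k, a, b, σ, hσ, ha, hb, h3, h4⟩ := A.nor _ hM w h1 fun g => ⟨f g, (h2 g trivial).symm⟩
      exact ⟨k, a, b, σ, hσ, ha, hb, h3, fun g => A.inj (by rw [h2 g trivial, h4])⟩
  have sD : Std D := fun f hf => by
    obtain ⟨k, a, b, σ, hσ, ha, hb, -, e⟩ := nf f hf.mor
    exact ⟨k, a, b, σ, hσ, ha, hb, e⟩
  obtain ⟨hM', hd'⟩ := dzero_mor hD sD l2 (hne.mono hle)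
  have e := max9 hM hM' hle fun a b σ ha hb h x hx => by
    obtain ⟨k, a', b', σ', hσ', ha', hb', h3, e⟩ := nf _ (hd' a b σ (U5F.sc σ) ha hb h)
    rw [lab_congr ha hb ha' hb' e, h3 x hx]
  refine ((mD P f).2 ⟨w, hw, hf⟩).of_sub (sub9 hD sD l2 hl (fun f hf => ?_) e.le)
  obtain ⟨k, a, b, σ, hσ, ha, hb, h3, e⟩ := nf f hf.mor
  exact ((hd a b σ hσ ha hb h3).conj_comp (mem_top k)).congr fun g _ => (e g).symm

end Cfsg.Lib.U4F
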