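import Cfsg.Agent.U4F.B2
import Cfsg.Agent.U4F.H1
import Cfsg.Agent.U4F.L2e
import Cfsg.Agent.U4F.Conj

/-! Normalisation of the automizer of `V`. -/

set_option autoImplicit false
set_option linter.unusedSectionVars false

namespace Cfsg.Lib.U4F

open Cfsg Cfsg.FusionSystem Subgroup Equiv Cfsg.Lib.Fus U
open Cfsg.Lib.U5F (UF qq SC sc_refl)

universe u

variable {K : Type u} [Field K] [StarRing K] [Finite K] [UF K] {p : ℕ} [Fact p.Prime] [CharP K p]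
  {F F' : FusionSystem (⊤ : Subgroup (U K))} {f : Perm (U K)}

theorem gh_mem {a b : K} {σ : K ≃+* K} {hσ : SC σ} (ha : a ≠ 0) (hb : b ≠ 0)
    (h : Mor F ⊤ (gam a b σ hσ)) : ∃ φ ∈ X2 F, ∀ v, φ v = gh a b σ hσ v := by
  obtain ⟨φ, hφ, e⟩ := exists_X2 (piso_gam ha hb h).2.2
  refine ⟨φ, hφ, fun v => ?_⟩
  obtain ⟨g, hg, rfl⟩ := exists_V v
  exact (e g hg).symm

theorem tor2 (hF : F.IsSaturated p) (hs : Std F) (hl : Low2 F) : Tor2 F := fun m hm => by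
  obtain ⟨φ, ⟨f, hf, e⟩, hφ⟩ := tor_of_l2 (syl_X2 hF).le (low2_iff.1 hl) hm
  obtain ⟨k, hk, ek⟩ := ext2 hF hf e fun t => ⟨_, n2_gh hm (inv_ne_zero hm) hφ t⟩
  obtain ⟨u, a, b, σ, hσ, ha, hb, eu⟩ := hs k hk
  have hg : Mor F ⊤ (gam a b σ hσ) :=
    (hk.mor.conj_comp (mem_top u⁻¹)).congr fun x _ => by rw [eu]; group
  have key : ∀ v, gh m m⁻¹ (RingEquiv.refl K) sc_refl v = u2 u.t (gh a b σ hσ v) := fun v => by
    obtain ⟨g, hg, rfl⟩ := exists_V v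
    rw [← hφ, ← e g hg, ek g hg, eu, pi2_conj _ (by simp [mem_V, mem_V.1 hg]), pi2_gam]
  obtain ⟨d, hd, hd'⟩ := U5F.exists_skew (K := K)
  have hb' : star b ≠ 0 := star_ne_zero.2 hb
  have hm' : star m ≠ 0 := star_ne_zero.2 hm
  have k0 : u.t = 0 := by
    simpa [hb, hd] using congrArg H.s (key ⟨0, 0, d, by simp, hd'⟩)
  rw [k0, u2_zero] at key
  have k1 : ∀ s, m * star m⁻¹ * s = a * star b * σ s := fun s =>
    congrArg H.s (key ⟨0, s, 0, by simp, by simp⟩)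
  have k2 : a * star b = m * star m⁻¹ := by simpa using (k1 1).symm
  have k3 : ∀ s, σ s = s := fun s => mul_left_cancel₀ (mul_ne_zero ha hb') (by rw [← k1, k2])
  have k4 : m * star m * d = a * star a * σ d := congrArg H.x1 (key ⟨d, 0, 0, hd', by simp⟩)
  have k5 : m⁻¹ * star m⁻¹ * d = b * star b * σ d := congrArg H.x2 (key ⟨0, 0, d, by simp, hd'⟩)
  rw [k3] at k4 k5
  have k4 := mul_right_cancel₀ hd k4
  have k5 := mul_right_cancel₀ hd k5
  have k6 : a / b = m / m⁻¹ := by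
    rw [← mul_div_mul_right a b hb', k2, ← k5, mul_div_mul_right _ _ (star_ne_zero.2 (inv_ne_zero hm))]
  exact hg.congr fun x _ => by
    ext <;> simp only [gam_t, gam_x1, gam_s, gam_x2, k2, k3, k4, k5, k6, RingEquiv.refl_apply]

theorem exists_low2 (hF : F.IsSaturated p) (hs : Std F) (he : Hess F p)
    (hE : F.IsEssential p (V K)) (ht : (Tor1 F ∧ qq K ≠ 2) ∨ qq K = p) :
    ∃ D : FusionSystem (⊤ : Subgroup (U K)), D.IsSaturated p ∧ Std D ∧ Low2 D ∧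
      (D.IsRealizable p → F.IsRealizable p) := by
  obtain ⟨ψ, hψ, h1, h2⟩ := lin2 (hy2 hF he) (mv2 hF hE) (ht.imp_left fun ⟨ht, hq⟩ => by
    obtain ⟨m, hm, hm0, hm1⟩ := exists_real_ne hq
    exact ⟨m, hm, hm0, hm1, gh_mem one_ne_zero hm0 (ht m hm0 hm)⟩)
  obtain ⟨D, hD, hr, e⟩ := exists_conj (isP p) hF (zet ψ hψ)
  refine ⟨D, hD, fun f hf => ?_, fun r => (e _ _ fun _ => Iff.rfl).2 ?_, hr⟩
  · have hf' := (e f ⊤ fun _ => Iff.rfl).1 hf
    obtain ⟨k, a, b, σ, hσ, ha, hb, ek⟩ := hs _ hf'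
    have hg : Mor F ⊤ (gam a b σ hσ) :=
      (hf'.mor.conj_comp (mem_top k⁻¹)).congr fun x _ => by rw [ek]; group
    have h3 := h2 a b σ hσ ha hb (gh_mem ha hb hg)
    refine ⟨(zet ψ hψ)⁻¹ k, a, b, σ, hσ, ha, hb, fun g => (zet ψ hψ).injective ?_⟩
    have e1 : zet ψ hψ (gam a b σ hσ g) = gam a b σ hσ (zet ψ hψ g) := by
      ext <;> simp only [zet_t, zet_x1, zet_s, zet_x2, gam_t, gam_x1, gam_s, gam_x2]
      rw [h3 _ g.h2, map_add, mul_add]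
    rw [map_mul, map_mul, map_inv, MulAut.apply_inv_self, e1, ← ek, Perm.mul_apply, Perm.mul_apply]
    exact congrArg (fun x => zet ψ hψ (f x)) ((zet ψ hψ).symm_apply_apply g).symm
  · obtain ⟨f, hf, e1⟩ := h1 r
    exact hf.congr fun x hx => pi2_inj (hf.maps hx) hx (e1 x hx)

end Cfsg.Lib.U4F
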