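import Cfsg.Agent.U4F.C9a
import Cfsg.Agent.U4F.C9b
import Cfsg.Agent.U4F.C9c
import Cfsg.Agent.U4F.Cmp
import Cfsg.Agent.U4F.Zet

/-! Comparison of fusion systems for `q = 3`. -/

set_option autoImplicit false
set_option linter.unusedSectionVars false

namespace Cfsg.Lib.U4F

open Cfsg Cfsg.FusionSystem Subgroup Equiv Cfsg.Lib.Fus U
open Cfsg.Lib.U5F (UF qq SC sc_refl)
open Cfsg.Lib.Perm (F9)

variable {F F' : FusionSystem (⊤ : Subgroup (U F9))}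

theorem hY_mem (hF : F.IsSaturated 3) (hs : Std F) (hl : Low2 F) : hY ∈ X1 F := by
  have h0 : ze ≠ 0 := by decide
  obtain ⟨φ, hφ, e⟩ := gy_mem h0 (inv_ne_zero h0) (tor2 hF hs hl ze h0)
  rwa [show hY = φ from Equiv.ext fun v => by rw [e, hY_eq]]

theorem sub9 (hF : F.IsSaturated 3) (hs : Std F) (hl : Low2 F) (hl' : Low2 F')
    (h : ∀ f, PIso F f ⊤ ⊤ → Mor F' ⊤ f) (hM : Sig (X1 F) ⊆ Sig (X1 F')) :
    F.IsSubsystemOf F' := by
  have he := hess_of_ne hF (by rw [qq_F9]; decide)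
  refine sub_of_alperin_essential (isP_top 3) hF fun P hP _ f hf => ?_
  rcases hP with rfl | hE
  · exact h f hf
  rcases he _ hE with rfl | rfl
  swap
  · exact subV hF he hl hl' h hf
  obtain ⟨φ, hφ, e⟩ := exists_X1 hf
  obtain ⟨f', hf', e'⟩ := gen9 (Y := X1 F') (hy1 hF) (bo1 hF hs) (hY_mem hF hs hl)
    (fun g ⟨k, hk, ek⟩ hg =>
      ⟨k, (Cmp.of_ext h (ext1 hF hk ek hg)).piso_of_maps fun _ hx => hk.maps hx, ek⟩)
    (fun b hb => hM hb) hφ
  obtain ⟨k, -, ek⟩ := inn_prime (p := 3) qq_F9 (f := fun g => f'⁻¹ (f g))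
    (fun g hg => hf'.inv_maps (hf.maps hg))
    (fun g hg x hx => by rw [hf.map_mul hg hx, hf'.symm.map_mul (hf.maps hg) (hf.maps hx)])
    fun g hg => φ.injective (by rw [← e' _ (hf'.inv_maps (hf.maps hg)), perm_apply_inv, e g hg])
  exact ((B1.piso_cj F' (Q F9) k).trans hf').mor.congr fun x hx => by
    rw [Perm.mul_apply, cj_apply, ← ek x hx, perm_apply_inv]

theorem dzero_mor (hF : F.IsSaturated 3) (hs : Std F) (hl : Low2 F) (hne : (Sig (X1 F)).Nonempty) :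
    Good (Sig (X1 F)) ∧ ∀ (a b : F9) (σ : F9 ≃+* F9) (hσ : SC σ), a ≠ 0 → b ≠ 0 →
      (∀ x ∈ Bs (Sig (X1 F)), lab a b σ x = x) → Mor F ⊤ (gam a b σ hσ) := by
  have hu := (hy1 hF).syl.le
  have hh := hY_mem hF hs hl
  have hg := good9 hu hh (bo1 hF hs) hne
  exact ⟨hg, fun a b σ hσ ha hb h => torY hF hs hσ ha hb (dzero9 hu hh hg ha hb h)⟩

end Cfsg.Lib.U4F
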